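import Cfsg.Agent.Lib.Char.RealVector.Span
import Cfsg.Agent.Lib.Block.LocalRing

/-!
# Gauss sum weights

For an invariant quadratic function with non-degenerate polar form the Gauss sums over the images of
`h - 1` form a weight.
-/

set_option autoImplicit false
set_option linter.unusedSectionVars false

universe u v w

namespace Cfsg.Lib.Char.RealVector

open Cfsg Cfsg.Lib.Char Cfsg.Lib.Block Module
open scoped ComplexConjugate

variable {p : ℕ} [hp : Fact p.Prime] {H : Type u} [Group H] [Finite H] {N : ℕ} [NeZero N] {M : Ideal AlgInt}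
  {U : Type v} [AddCommGroup U] [Module (ZMod p) U] [Finite U]

/-- The fixed vectors. -/
def fixSub (ρ : H →* (U ≃ₗ[ZMod p] U)) (h : H) : Submodule (ZMod p) U :=
  LinearMap.ker ((ρ h : U →ₗ[ZMod p] U) - LinearMap.id)

/-- The vectors `h u - u`. -/
def movSub (ρ : H →* (U ≃ₗ[ZMod p] U)) (h : H) : Submodule (ZMod p) U :=
  LinearMap.range ((ρ h : U →ₗ[ZMod p] U) - LinearMap.id)

theorem mem_fixSub {ρ : H →* (U ≃ₗ[ZMod p] U)} {h : H} {u : U} : u ∈ fixSub ρ h ↔ ρ h u = u := by
  simp [fixSub, sub_eq_zero]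

theorem mem_movSub {ρ : H →* (U ≃ₗ[ZMod p] U)} {h : H} {u : U} : u ∈ movSub ρ h ↔ ∃ v, ρ h v - v = u := by
  simp [movSub]

theorem natCard_module (W : Submodule (ZMod p) U) : Nat.card W = p ^ finrank (ZMod p) W := by
  rw [Module.natCard_eq_pow_finrank (K := ZMod p), Nat.card_zmod]

theorem isCompl_fix_mov (hpH : ¬ p ∣ Nat.card H) (ρ : H →* (U ≃ₗ[ZMod p] U)) (h : H) :
    IsCompl (fixSub ρ h) (movSub ρ h) := by
  haveI : Module.Finite (ZMod p) U := Module.Finite.of_finite
  have hdisj : Disjoint (fixSub ρ h) (movSub ρ h) := by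
    rw [Submodule.disjoint_def]
    intro d hd hd'
    obtain ⟨v, rfl⟩ := mem_movSub.1 hd'
    have hf := mem_fixSub.1 hd
    have hstep : ∀ i : ℕ, ρ (h ^ i) v = v + i • (ρ h v - v) := by
      intro i
      induction i with
      | zero => simp
      | succ i ih =>
        rw [pow_succ', map_mul, LinearEquiv.mul_apply, ih, map_add, map_nsmul, hf, add_smul, one_smul,
          show ρ h v = v + (ρ h v - v) by abel]
        abel
    have h1 := hstep (Nat.card H)
    rw [pow_card_eq_one', map_one, LinearEquiv.coe_one, id, left_eq_add, ← Nat.cast_smul_eq_nsmul (ZMod p),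
      smul_eq_zero] at h1
    exact h1.resolve_left (by rwa [ZMod.natCast_eq_zero_iff])
  refine ⟨hdisj, codisjoint_iff.2 (Submodule.eq_top_of_finrank_eq ?_)⟩
  have h1 := Submodule.finrank_sup_add_finrank_inf_eq (fixSub ρ h) (movSub ρ h)
  rw [disjoint_iff.1 hdisj, finrank_bot, add_zero] at h1
  rw [h1, add_comm]
  exact LinearMap.finrank_range_add_finrank_ker _

/-- A weight for the action. -/
def Weight (M : Ideal AlgInt) (N : ℕ) (ρ : H →* (U ≃ₗ[ZMod p] U)) : Prop :=
  ∃ ψ : H → ℂ, InSpan N ψ ∧ ψ 1 = 1 ∧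
    (∀ h, ψ h * conj (ψ h) * (Nat.card (fixSub ρ h) : ℂ) = (Nat.card U : ℂ)) ∧
    ∀ h, (∃ u, ρ h u ≠ u) → MemLocalIdeal M (ψ h)

/-- The absolute square of a Gauss sum. -/
theorem gauss_normSq {W : Type w} [AddCommGroup W] [Fintype W] (e : AddChar (ZMod p) ℂ) (he : ∀ x, x ≠ 0 → e x ≠ 1)
    (hconj : ∀ x, conj (e x) = e (-x)) (q : W → ZMod p) (s : W →+ W →+ ZMod p)
    (hq : ∀ a b, q (a + b) = q a + q b + s a b) (hs : ∀ d, (∀ a, s a d = 0) → d = 0) :
    (∑ a : W, e (q a)) * conj (∑ a : W, e (q a)) = (Fintype.card W : ℂ) := by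
  classical
  have hs0 : ∀ d : W, ∑ a : W, e (s a d) = if d = 0 then (Fintype.card W : ℂ) else 0 := by
    intro d
    split_ifs with hd
    · subst hd; simp
    · let χ : AddChar W ℂ := e.compAddMonoidHom (s.flip d)
      have : χ ≠ 1 := fun h1 => hd (hs d fun a => by
        by_contra ha
        exact he _ ha (by simpa [χ] using DFunLike.congr_fun h1 a))
      simpa [χ] using AddChar.sum_eq_zero_of_ne_one this
  have hq0 : q 0 = 0 := by
    have := hq 0 0
    simp at this
    exact this
  calc (∑ a : W, e (q a)) * conj (∑ a : W, e (q a))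
      = ∑ b : W, ∑ d : W, e (q (b + d)) * conj (e (q b)) := by
        rw [map_sum, Finset.mul_sum]
        refine Finset.sum_congr rfl fun b _ => ?_
        rw [Finset.sum_mul]
        exact (Equiv.sum_comp (Equiv.addLeft b) fun a => e (q a) * conj (e (q b))).symm
    _ = ∑ d : W, e (q d) * ∑ b : W, e (s b d) := by
        rw [Finset.sum_comm]
        refine Finset.sum_congr rfl fun d _ => ?_
        rw [Finset.mul_sum]
        refine Finset.sum_congr rfl fun b _ => ?_
        rw [hconj, ← AddChar.map_add_eq_mul, ← AddChar.map_add_eq_mul, hq]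
        congr 1
        ring
    _ = (Fintype.card W : ℂ) := by
        simp only [hs0, mul_ite, mul_zero, Finset.sum_ite_eq', Finset.mem_univ, if_true, hq0,
          AddChar.map_zero_eq_one, one_mul]

/-- The Gauss sums give a weight. -/
theorem weight_gauss (hM : IsPModular p M) (hpH : ¬ p ∣ Nat.card H) (hHN : Nat.card H ∣ N) (hpN : p ∣ N)
    (ρ : H →* (U ≃ₗ[ZMod p] U)) (q : U → ZMod p) (hinv : ∀ h u, q (ρ h u) = q u) (s : U →+ U →+ ZMod p)
    (hq : ∀ a b, q (a + b) = q a + q b + s a b) (hs : ∀ d, (∀ a, s a d = 0) → d = 0) : Weight M N ρ := by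
  classical
  haveI : NeZero p := ⟨hp.out.ne_zero⟩
  haveI : Module.Finite (ZMod p) U := Module.Finite.of_finite
  haveI := Fintype.ofFinite U
  have hζ := Complex.isPrimitiveRoot_exp p hp.out.ne_zero
  set e : AddChar (ZMod p) ℂ := AddChar.zmodChar p hζ.pow_eq_one with he_def
  have he : ∀ x, x ≠ 0 → e x ≠ 1 := fun x hx h1 => hx (by
    rw [he_def, AddChar.zmodChar_apply, hζ.pow_eq_one_iff_dvd] at h1
    exact (ZMod.val_eq_zero _).1 (Nat.eq_zero_of_dvd_of_lt h1 (ZMod.val_lt _)))
  have hep : ∀ x, e x ^ p = 1 := fun x => by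
    rw [← AddChar.map_nsmul_eq_pow]; simp
  have hconj : ∀ x, conj (e x) = e (-x) := fun x => (AddChar.map_neg_eq_conj e x).symm
  have hemem : ∀ x, e x ∈ cycInt N := fun x => root_mem_cycInt (by
    obtain ⟨d, hd⟩ := hpN
    rw [hd, pow_mul, hep, one_pow])
  have hq0 : q 0 = 0 := by
    have := hq 0 0
    simp at this
    exact this
  have hsinv : ∀ h a b, s (ρ h a) (ρ h b) = s a b := fun h a b => by
    have h1 := hq (ρ h a) (ρ h b)
    rw [← map_add, hinv, hinv, hinv, hq] at h1
    exact (add_left_cancel h1).symm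
  have hsym : ∀ a b, s a b = s b a := fun a b => by
    have h1 := hq b a
    rw [add_comm b a, hq, add_comm (q a)] at h1
    exact add_left_cancel h1
  have horth : ∀ h, ∀ c ∈ fixSub ρ h, ∀ d ∈ movSub ρ h, s c d = 0 := by
    intro h c hc d hd
    obtain ⟨v, rfl⟩ := mem_movSub.1 hd
    rw [map_sub, sub_eq_zero]
    conv_lhs => rw [← mem_fixSub.1 hc]
    exact hsinv h c v
  let f : H → ℂ := fun h => ∑ c : fixSub ρ h, e (q c)
  let g : H → ℂ := fun h => ∑ d : movSub ρ h, e (q d)
  let S : ℂ := ∑ u : U, e (q u)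
  have hfg : ∀ h, f h * g h = S := by
    intro h
    rw [Finset.sum_mul_sum, ← Fintype.sum_prod_type']
    refine Fintype.sum_equiv (Submodule.prodEquivOfIsCompl _ _ (isCompl_fix_mov hpH ρ h)).toEquiv _ _ fun z => ?_
    simp only [LinearEquiv.coe_toEquiv, Submodule.coe_prodEquivOfIsCompl']
    rw [hq, horth h _ z.1.2 _ z.2.2, add_zero, AddChar.map_add_eq_mul]
  have hnorm : ∀ (W W' : Submodule (ZMod p) U), IsCompl W W' → (∀ a ∈ W, ∀ b ∈ W', s a b = 0) →
      (∑ a : W, e (q a)) * conj (∑ a : W, e (q a)) = (Nat.card W : ℂ) := by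
    intro W W' hWW' ho
    rw [Nat.card_eq_fintype_card]
    refine gauss_normSq e he hconj (fun a : W => q a)
      ((AddMonoidHom.compHom' W.subtype.toAddMonoidHom).comp (s.comp W.subtype.toAddMonoidHom))
      (fun a b => hq a b) fun d hd => ?_
    refine Subtype.ext (hs _ fun a => ?_)
    obtain ⟨⟨b, c⟩, rfl⟩ := (Submodule.prodEquivOfIsCompl _ _ hWW').surjective a
    rw [Submodule.coe_prodEquivOfIsCompl', map_add, AddMonoidHom.add_apply, show s (b : U) d = 0 from hd b, zero_add,
      hsym]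
    exact ho d d.2 c c.2
  have hfn : ∀ h, f h * conj (f h) = (Nat.card (fixSub ρ h) : ℂ) := fun h =>
    hnorm _ _ (isCompl_fix_mov hpH ρ h) (horth h)
  have hgn : ∀ h, g h * conj (g h) = (Nat.card (movSub ρ h) : ℂ) := fun h =>
    hnorm _ _ (isCompl_fix_mov hpH ρ h).symm fun a ha b hb => by rw [hsym]; exact horth h b hb a ha
  have hcard : ∀ h, Nat.card (fixSub ρ h) * Nat.card (movSub ρ h) = Nat.card U := fun h => by
    rw [← Nat.card_prod]
    exact Nat.card_congr (Submodule.prodEquivOfIsCompl _ _ (isCompl_fix_mov hpH ρ h)).toEquiv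
  have hSmem : S ∈ cycInt N := sum_mem fun u _ => hemem _
  have hgmem : ∀ h, g h ∈ cycInt N := fun h => sum_mem fun u _ => hemem _
  -- the fixed point counts
  let π : H →* Equiv.Perm U :=
    { toFun := fun h => (ρ h).toEquiv
      map_one' := by ext u; simp
      map_mul' := fun a b => by ext u; simp }
  have hspan : InSpan N (fun h => conj (f h)) := by
    have hc : ∀ c : ZMod p, InSpan N (fun h => (Nat.card {u : U // q u = c ∧ ρ h u = u} : ℂ)) := by
      intro c
      let π' : H →* Equiv.Perm {u : U // q u = c} :=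
        { toFun := fun h => (ρ h).toEquiv.subtypeEquiv fun u => by simp [hinv]
          map_one' := by ext u; simp
          map_mul' := fun a b => by ext u; simp }
      convert inSpan_fixCount (N := N) π' using 1
      funext h
      congr 1
      exact (Nat.card_congr
        { toFun := fun x => ⟨x.1.1, x.1.2, congrArg Subtype.val x.2⟩
          invFun := fun x => ⟨⟨x.1, x.2.1⟩, Subtype.ext x.2.2⟩
          left_inv := fun _ => rfl
          right_inv := fun _ => rfl }).symm
    have := inSpan_sum (N := N) Finset.univ fun c (_ : c ∈ Finset.univ) => InSpan.smul (hemem (-c)) (hc c)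
    convert this using 1
    funext h
    simp only [Finset.sum_apply, Pi.smul_apply, smul_eq_mul, f, map_sum, hconj]
    rw [← Finset.sum_fiberwise Finset.univ (fun a : fixSub ρ h => q a)]
    refine Finset.sum_congr rfl fun c _ => ?_
    rw [Finset.sum_congr rfl (g := fun _ => e (-c)) (fun a ha => by rw [(Finset.mem_filter.1 ha).2]),
      Finset.sum_const, nsmul_eq_mul, mul_comm]
    congr 2
    rw [← Nat.card_eq_finsetCard]
    exact Nat.card_congr
      { toFun := fun a => ⟨a.1.1, (Finset.mem_filter.1 a.2).2, mem_fixSub.1 a.1.2⟩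
        invFun := fun x => ⟨⟨x.1, mem_fixSub.2 x.2.2⟩, Finset.mem_filter.2 ⟨Finset.mem_univ _, x.2.1⟩⟩
        left_inv := fun _ => rfl
        right_inv := fun _ => rfl }
  have hπ : InSpan N (fun h => (Nat.card (fixSub ρ h) : ℂ)) := by
    convert inSpan_fixCount (N := N) π using 1
    funext h
    congr 1
    exact Nat.card_congr (Equiv.subtypeEquivRight fun u => mem_fixSub)
  obtain ⟨A, hA⟩ := inSpan_recip hp.out.ne_zero hπ
    (d := fun h => finrank (ZMod p) (fixSub ρ h)) (fun h => Submodule.finrank_le _)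
    (fun h => by rw [natCard_module, Nat.cast_pow])
  have hg : InSpan N g := by
    have h1 := InSpan.smul hSmem (hspan.mul hA)
    have e1 : (S • ((fun h => conj (f h)) * fun h => (p : ℂ) ^ A / (Nat.card (fixSub ρ h) : ℂ))) =
        fun h => (p : ℂ) ^ A * g h := by
      funext h
      have hne : (Nat.card (fixSub ρ h) : ℂ) ≠ 0 := Nat.cast_ne_zero.2 Nat.card_pos.ne'
      simp only [Pi.smul_apply, Pi.mul_apply, smul_eq_mul]
      rw [← mul_assoc, mul_div_assoc', div_eq_iff hne, ← hfg h, ← hfn h]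
      ring
    rw [e1] at h1
    refine inSpan_of_pow_smul hp.out hpH hHN (fun a b => ?_) hgmem h1
    have := h1.isClassFunction a b
    exact mul_left_cancel₀ (pow_ne_zero A (Nat.cast_ne_zero.2 hp.out.ne_zero)) this
  refine ⟨g, hg, ?_, fun h => ?_, fun h ⟨u, hu⟩ => ?_⟩
  · have hb : movSub ρ 1 = ⊥ := by simp [movSub]
    show ∑ d : movSub ρ 1, e (q d) = 1
    haveI : Subsingleton (movSub ρ 1) := ⟨fun a b => Subtype.ext (by
      rw [(Submodule.eq_bot_iff _).1 hb a a.2, (Submodule.eq_bot_iff _).1 hb b b.2])⟩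
    rw [Fintype.sum_subsingleton _ ⟨0, zero_mem _⟩]
    simp [hq0]
  · rw [hgn, ← Nat.cast_mul, mul_comm, hcard]
  · have hne : movSub ρ h ≠ ⊥ := fun hb => hu (sub_eq_zero.1
      ((Submodule.mem_bot _).1 (hb ▸ mem_movSub.2 ⟨u, rfl⟩)))
    have h1 : g h = ∑ d : movSub ρ h, (e (q d) - 1) + (Nat.card (movSub ρ h) : ℂ) := by
      rw [Finset.sum_sub_distrib, Finset.sum_const, nsmul_eq_mul, mul_one, Finset.card_univ,
        ← Nat.card_eq_fintype_card, sub_add_cancel]
    rw [h1]
    refine memLocalIdeal_add hM (memLocalIdeal_sum hM _ _ fun d _ =>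
      memLocalIdeal_sub_one_of_pow_prime_pow hM (k := 1) (by rw [pow_one]; exact hep _)) ?_
    rw [memLocalIdeal_natCast_iff hM, natCard_module]
    exact dvd_pow_self p fun h0 => hne (Submodule.finrank_eq_zero.1 h0)

end Cfsg.Lib.Char.RealVector
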