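import Cfsg.Agent.Lib.Char.RealVector.Gauss
import Cfsg.Agent.Lib.Char.PRationalLift
import Cfsg.Agent.Lib.Char.Galois

/-!
# Heisenberg weights

For an invariant non-degenerate alternating form in odd characteristic the canonical extension of the
irreducible character of the Heisenberg group gives a weight.
-/

set_option autoImplicit false
set_option linter.unusedSectionVars false
set_option linter.style.haveILetI false

universe u v

namespace Cfsg.Lib.Char.RealVector

open Cfsg Cfsg.Lib.Char Cfsg.Lib.Block Module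
open scoped ComplexConjugate

variable {p : ℕ} {U : Type v} [AddCommGroup U]

/-- The Heisenberg group of an additive pairing. -/
@[ext]
structure Heis (β : U →+ U →+ ZMod p) : Type v where
  vec : U
  sc : ZMod p

variable {β : U →+ U →+ ZMod p}

instance : Mul (Heis β) := ⟨fun x y => ⟨x.vec + y.vec, x.sc + y.sc + β x.vec y.vec⟩⟩
instance : One (Heis β) := ⟨⟨0, 0⟩⟩
instance : Inv (Heis β) := ⟨fun x => ⟨-x.vec, -x.sc + β x.vec x.vec⟩⟩

theorem heis_mul (x y : Heis β) : x * y = ⟨x.vec + y.vec, x.sc + y.sc + β x.vec y.vec⟩ := rfl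
theorem heis_one : (1 : Heis β) = ⟨0, 0⟩ := rfl
theorem heis_inv (x : Heis β) : x⁻¹ = ⟨-x.vec, -x.sc + β x.vec x.vec⟩ := rfl

instance : Group (Heis β) where
  mul_assoc x y z := by
    simp only [heis_mul, map_add, AddMonoidHom.add_apply]
    ext <;> simp only [] <;> abel
  one_mul x := by simp [heis_mul, heis_one]
  mul_one x := by simp [heis_mul, heis_one]
  inv_mul_cancel x := by
    simp only [heis_mul, heis_inv, heis_one, map_neg, AddMonoidHom.neg_apply]
    ext <;> simp only [] <;> abel

/-- The pairs underlying the group. -/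
def heisEquiv : Heis β ≃ U × ZMod p :=
  ⟨fun x => (x.vec, x.sc), fun z => ⟨z.1, z.2⟩, fun _ => rfl, fun _ => rfl⟩

instance [Finite U] [NeZero p] : Finite (Heis β) := Finite.of_equiv _ heisEquiv.symm

theorem heis_comm (x y : Heis β) :
    x * y = ⟨0, β x.vec y.vec - β y.vec x.vec⟩ * (y * x) := by
  simp only [heis_mul, map_zero, AddMonoidHom.zero_apply, add_zero, zero_add]
  ext <;> simp only [] <;> abel

/-- A central element of a generating scalar. -/
theorem central_pow (c : ZMod p) : ∀ k : ℕ, (⟨0, c⟩ : Heis β) ^ k = ⟨0, k • c⟩ := by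
  intro k
  induction k with
  | zero => rw [pow_zero, zero_smul]; rfl
  | succ k ih => rw [pow_succ, ih, heis_mul, add_smul, one_smul]; simp

variable {H : Type v} [Group H] [Finite H] {N : ℕ} [NeZero N] {M : Ideal AlgInt} [Fact p.Prime]
  [Module (ZMod p) U] [Finite U]

/-- The action on the Heisenberg group. -/
def heisAct (ρ : H →* (U ≃ₗ[ZMod p] U)) (hinv : ∀ h a b, β (ρ h a) (ρ h b) = β a b) : H →* MulAut (Heis β) where
  toFun h :=
    { toFun := fun x => ⟨ρ h x.vec, x.sc⟩
      invFun := fun x => ⟨(ρ h).symm x.vec, x.sc⟩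
      left_inv := fun x => by simp
      right_inv := fun x => by simp
      map_mul' := fun x y => by simp [heis_mul, hinv] }
  map_one' := by ext x <;> simp
  map_mul' a b := by ext x <;> simp

/-- The weight of an alternating form. -/
theorem weight_heisenberg (hM : IsPModular p M) (hpH : ¬ p ∣ Nat.card H) (hHN : Nat.card H ∣ N) (h2 : p ≠ 2)
    (ρ : H →* (U ≃ₗ[ZMod p] U)) (β : U →+ U →+ ZMod p) (hinv : ∀ h a b, β (ρ h a) (ρ h b) = β a b)
    (halt : ∀ a, β a a = 0) (hnd : ∀ b, (∀ a, β a b = 0) → b = 0) : Weight M N ρ := by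
  classical
  have hp : p.Prime := Fact.out
  haveI : NeZero p := ⟨hp.ne_zero⟩
  haveI : Module.Finite (ZMod p) U := Module.Finite.of_finite
  have htwo : (2 : ZMod p) ≠ 0 := fun h0 => h2 ((Nat.prime_dvd_prime_iff_eq hp Nat.prime_two).1
    ((ZMod.natCast_eq_zero_iff 2 p).1 (by exact_mod_cast h0)))
  have hanti : ∀ a b, β b a = -β a b := fun a b => by
    have h := halt (a + b)
    simp only [map_add, AddMonoidHom.add_apply, halt] at h
    linear_combination h
  have horth : ∀ h, ∀ c ∈ fixSub ρ h, ∀ d ∈ movSub ρ h, β c d = 0 := by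
    intro h c hc d hd
    obtain ⟨v, rfl⟩ := mem_movSub.1 hd
    rw [map_sub, sub_eq_zero]
    conv_lhs => rw [← mem_fixSub.1 hc]
    exact hinv h c v
  let G := Heis β ⋊[heisAct ρ hinv] H
  haveI : Finite G := Finite.of_equiv _ SemidirectProduct.equivProd.symm
  letI := Fintype.ofFinite G
  let K : Subgroup G := (SemidirectProduct.inl : Heis β →* G).range
  haveI hKn : K.Normal := by
    show (SemidirectProduct.inl : Heis β →* G).range.Normal
    rw [SemidirectProduct.range_inl_eq_ker_rightHom]
    exact MonoidHom.normal_ker _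
  haveI := Fintype.ofFinite K
  have hKc : Nat.card K = Nat.card U * p := by
    rw [← Nat.card_congr (MonoidHom.ofInjective SemidirectProduct.inl_injective).toEquiv,
      Nat.card_congr (heisEquiv (β := β)), Nat.card_prod, Nat.card_zmod]
  have hGc : Nat.card G = Nat.card K * Nat.card H := by
    rw [Nat.card_congr SemidirectProduct.equivProd, Nat.card_prod,
      ← Nat.card_congr (MonoidHom.ofInjective (f := (SemidirectProduct.inl : Heis β →* G))
        SemidirectProduct.inl_injective).toEquiv]
  have hKi : K.index = Nat.card H := by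
    have h := K.card_mul_index
    rw [hGc] at h
    exact Nat.eq_of_mul_eq_mul_left Nat.card_pos h
  have hUp : Nat.card U = p ^ finrank (ZMod p) U := by
    rw [Module.natCard_eq_pow_finrank (K := ZMod p), Nat.card_zmod]
  have hcop : (Nat.card K).Coprime K.index := by
    rw [hKi, hKc, hUp, ← pow_succ]
    exact Nat.Coprime.pow_left _ (hp.coprime_iff_not_dvd.2 hpH)
  let el : U → ZMod p → K := fun u a => ⟨SemidirectProduct.inl ⟨u, a⟩, ⟨_, rfl⟩⟩
  have hel : ∀ x : K, ∃ u a, x = el u a := by
    rintro ⟨_, y, rfl⟩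
    exact ⟨y.vec, y.sc, rfl⟩
  have hcentG : ∀ a : ZMod p, (el 0 a : G) ∈ Subgroup.center G := by
    intro a
    rw [Subgroup.mem_center_iff]
    intro g
    have h1 : heisAct ρ hinv g.right (⟨0, a⟩ : Heis β) = ⟨0, a⟩ := by
      ext <;> simp [heisAct]
    refine SemidirectProduct.ext ?_ ?_
    · show g.left * heisAct ρ hinv g.right (⟨0, a⟩ : Heis β) = (⟨0, a⟩ : Heis β) * heisAct ρ hinv 1 g.left
      rw [h1, map_one, MulAut.one_apply]
      ext <;> simp [heis_mul, add_comm]
    · show g.right * 1 = 1 * g.right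
      rw [mul_one, one_mul]
  have hcentK : ∀ a : ZMod p, el 0 a ∈ Subgroup.center K := fun a =>
    Subgroup.mem_center_iff.2 fun x => Subtype.ext (Subgroup.mem_center_iff.1 (hcentG a) x)
  have hz1 : el 0 1 ≠ 1 := fun h => one_ne_zero (congrArg Heis.sc
    (SemidirectProduct.inl_injective (show (SemidirectProduct.inl ⟨0, 1⟩ : G) = SemidirectProduct.inl 1 by
      rw [map_one]; exact congrArg Subtype.val h)))
  -- an irreducible character moving the centre
  obtain ⟨θ, hθ⟩ : ∃ θ : IrrCharacter K, (θ : K → ℂ) (el 0 1) ≠ (θ : K → ℂ) 1 := by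
    by_contra hcon
    push Not at hcon
    have h1 := column_orthogonality (el 0 1) (1 : K)
    rw [if_neg (fun h => hz1 (isConj_one_left.1 h)), Finset.sum_congr rfl fun χ _ => by rw [hcon χ]] at h1
    have h2 := column_orthogonality (1 : K) (1 : K)
    rw [if_pos (IsConj.refl _), h1] at h2
    exact absurd h2.symm (Nat.cast_ne_zero.2 Nat.card_pos.ne')
  have hz : ∀ c : ZMod p, c ≠ 0 → (θ : K → ℂ) (el 0 c) ≠ (θ : K → ℂ) 1 := by
    intro c hc heq
    obtain ⟨ω, -, hω⟩ := exists_central_scalar θ (hcentK c)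
    have h1 : (θ : K → ℂ) 1 ≠ 0 := θ.2.apply_one_ne_zero
    have hω1 : ω = 1 := by
      have h := hω 1
      rw [mul_one, heq] at h
      exact mul_right_cancel₀ h1 (h.symm.trans (one_mul _).symm)
    have hk : ∀ k : ℕ, (θ : K → ℂ) (el 0 c ^ k) = (θ : K → ℂ) 1 := by
      intro k
      induction k with
      | zero => rw [pow_zero]
      | succ k ih => rw [pow_succ', hω, ih, hω1, one_mul]
    refine hθ ?_
    have e : el 0 c ^ (c⁻¹).val = el 0 1 := by
      refine Subtype.ext ?_
      show (SemidirectProduct.inl (⟨0, c⟩ : Heis β) : G) ^ (c⁻¹).val = _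
      rw [← map_pow, central_pow]
      show _ = SemidirectProduct.inl (⟨0, 1⟩ : Heis β)
      rw [nsmul_eq_mul, ZMod.natCast_zmod_val, inv_mul_cancel₀ hc]
    rw [← e, hk]
  -- it vanishes off the centre
  have hvan : ∀ u a, u ≠ 0 → (θ : K → ℂ) (el u a) = 0 := by
    intro u a hu
    obtain ⟨w, hw⟩ : ∃ w, β w u ≠ 0 := by
      by_contra hcon
      push Not at hcon
      exact hu (hnd u hcon)
    obtain ⟨ω, -, hω⟩ := exists_central_scalar θ (hcentK (β w u - β u w))
    have hne : ω ≠ 1 := fun h1 => hz (β w u - β u w)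
      (by rw [hanti w u, sub_neg_eq_add, ← two_mul]; exact mul_ne_zero htwo hw)
      (by have := hω 1; rwa [mul_one, h1, one_mul] at this)
    have e : el w 0 * el u a * (el w 0)⁻¹ = el 0 (β w u - β u w) * el u a := by
      rw [mul_inv_eq_iff_eq_mul, mul_assoc]
      refine Subtype.ext ?_
      show (SemidirectProduct.inl (⟨w, 0⟩ : Heis β) * SemidirectProduct.inl (⟨u, a⟩ : Heis β) : G) =
        SemidirectProduct.inl (⟨0, _⟩ : Heis β) *
          (SemidirectProduct.inl (⟨u, a⟩ : Heis β) * SemidirectProduct.inl (⟨w, 0⟩ : Heis β))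
      rw [← map_mul, ← map_mul, ← map_mul, heis_comm]
    have h1 := θ.2.isClassFunction (el u a) (el w 0)
    rw [e, hω] at h1
    by_contra h0
    exact hne (mul_right_cancel₀ h0 (h1.trans (one_mul _).symm))
  -- invariance and extension
  have hfixc : ∀ (g : G) (a : ZMod p), MulAut.conjNormal g (el 0 a) = el 0 a := fun g a => Subtype.ext (by
    rw [MulAut.conjNormal_apply, (Subgroup.mem_center_iff.1 (hcentG a) g), mul_inv_cancel_right])
  have hinvθ : ∀ (g : G) (n : K), (θ : K → ℂ) (MulAut.conjNormal g n) = (θ : K → ℂ) n := by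
    intro g n
    obtain ⟨u, a, rfl⟩ := hel n
    by_cases hu : u = 0
    · subst hu; rw [hfixc]
    · rw [hvan u a hu]
      obtain ⟨u', a', he⟩ := hel (MulAut.conjNormal g (el u a))
      by_cases hu' : u' = 0
      · exfalso
        subst hu'
        have h1 : el u a = el 0 a' := by
          rw [← MulEquiv.symm_apply_apply (MulAut.conjNormal g) (el u a), he, MulEquiv.symm_apply_eq, hfixc]
        exact hu (congrArg Heis.vec (SemidirectProduct.inl_injective (congrArg Subtype.val h1)))
      · rw [he, hvan u' a' hu']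
  obtain ⟨m, σ, hσ, hσθ⟩ := θ.2
  haveI := hσ
  obtain ⟨R, hR, hRd⟩ := exists_extension_coprime hcop σ (fun g n => by rw [hσθ]; exact hinvθ g n)
  haveI := isIrreducible_of_extension hR
  have hirrR : IsIrrCharacter G R.character := isIrrCharacter_character R
  set χ := R.character with hχdef
  have hres : ∀ n : K, χ (n : G) = (θ : K → ℂ) n := fun n => by
    rw [← hσθ]
    exact congrArg (fun f => LinearMap.trace ℂ _ f) (hR n)
  have hsum : ∀ g : G, ∑ n : K, χ ((n : G) * g) * conj (χ ((n : G) * g)) = (Nat.card K : ℂ) := fun g =>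
    sum_coset_self θ.2 hirrR.isCharacter hres g
  -- integrality
  have hint : ∀ h : H, ∃ n : ℤ, χ (SemidirectProduct.inr h) = n := fun h => by
    refine exists_int_of_pow_invariant hirrR.isCharacter _ fun k hk => ?_
    have hKH : (Nat.card K).Coprime (Nat.card H) := hKi ▸ hcop
    obtain ⟨k', hk1, hk2⟩ := Nat.chineseRemainder hKH 1 k
    have hco : k'.Coprime (Nat.card G) := by
      rw [hGc]
      refine Nat.Coprime.mul_right ?_ ?_
      · rw [Nat.Coprime, hk1.gcd_eq, Nat.gcd_one_left]
      · rw [Nat.Coprime, hk2.gcd_eq]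
        exact hk.coprime_dvd_right (hGc ▸ dvd_mul_left _ _)
    have h1 := extension_pow_invariant hcop σ hR hRd hco hk1 (SemidirectProduct.inr h)
    have h2' : (SemidirectProduct.inr h : G) ^ k' = SemidirectProduct.inr h ^ k := by
      rw [← map_pow, ← map_pow, pow_eq_pow_iff_modEq.2 (hk2.of_dvd (orderOf_dvd_natCard h))]
    rw [← h2']
    exact h1
  choose n hn using hint
  -- absolute values
  have habs : ∀ h : H, (n h : ℤ) * n h = (Nat.card (fixSub ρ h) : ℤ) := by
    intro h
    set x : G := SemidirectProduct.inr h with hx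
    have hrot : ∀ (u : U) (a : ZMod p), u ∈ movSub ρ h →
        χ ((el u a : G) * x) * conj (χ ((el u a : G) * x)) = χ x * conj (χ x) := by
      intro u a hu
      obtain ⟨v, rfl⟩ := mem_movSub.1 hu
      obtain ⟨ω, hωo, hω⟩ := exists_central_scalar ⟨χ, hirrR⟩ (hcentG (a - β (-v) (-ρ h (-v))))
      have hωn : ω * conj ω = 1 := by
        rw [Complex.mul_conj', Complex.norm_eq_one_of_pow_eq_one hωo (orderOf_pos _).ne']
        simp
      have e : (el (ρ h v - v) a : G) * x =
          (el 0 (a - β (-v) (-ρ h (-v))) : G) * ((el (-v) 0 : G) * x * (el (-v) 0 : G)⁻¹) := by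
        show (SemidirectProduct.inl (⟨ρ h v - v, a⟩ : Heis β) : G) * SemidirectProduct.inr h =
          SemidirectProduct.inl (⟨0, _⟩ : Heis β) * (SemidirectProduct.inl (⟨-v, 0⟩ : Heis β) *
            SemidirectProduct.inr h * (SemidirectProduct.inl (⟨-v, 0⟩ : Heis β))⁻¹)
        refine SemidirectProduct.ext ?_ ?_
        · simp only [G, SemidirectProduct.mul_left, SemidirectProduct.mul_right, SemidirectProduct.left_inl,
            SemidirectProduct.right_inl, SemidirectProduct.left_inr, SemidirectProduct.right_inr,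
            SemidirectProduct.inv_left, SemidirectProduct.inv_right, map_one, MulAut.one_apply, one_mul, mul_one,
            inv_one]
          ext <;> simp [heisAct, heis_mul, heis_inv, halt, sub_eq_add_neg, add_comm]
        · simp [G]
      have h1 := hω ((el (-v) 0 : G) * x * (el (-v) 0 : G)⁻¹)
      simp only [] at h1
      rw [← e, hirrR.isClassFunction x (el (-v) 0 : G)] at h1
      rw [show χ _ = ω * χ x from h1, map_mul, mul_mul_mul_comm, hωn, one_mul]
    have hoff : ∀ (u : U) (a : ZMod p), u ∉ movSub ρ h → χ ((el u a : G) * x) = 0 := by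
      intro u a hu
      have hcd := isCompl_fix_mov hpH ρ h
      obtain ⟨w, hw, hwu⟩ : ∃ w ∈ fixSub ρ h, β w u ≠ 0 := by
        by_contra hcon
        push Not at hcon
        obtain ⟨⟨c, d⟩, hcd'⟩ := (Submodule.prodEquivOfIsCompl _ _ hcd).surjective u
        rw [Submodule.coe_prodEquivOfIsCompl'] at hcd'
        have hc0 : (c : U) = 0 := hnd _ fun b => by
          obtain ⟨⟨b1, b2⟩, rfl⟩ := (Submodule.prodEquivOfIsCompl _ _ hcd).surjective b
          rw [Submodule.coe_prodEquivOfIsCompl', map_add, AddMonoidHom.add_apply, hanti (c : U) (b2 : U),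
            horth h _ c.2 _ b2.2, neg_zero, add_zero]
          have := hcon b1 b1.2
          rwa [← hcd', map_add, horth h _ b1.2 _ d.2, add_zero] at this
        exact hu (by rw [← hcd', hc0, zero_add]; exact d.2)
      obtain ⟨ω, -, hω⟩ := exists_central_scalar ⟨χ, hirrR⟩ (hcentG (β w u - β u w))
      have hne : ω ≠ 1 := fun h1 => hz (β w u - β u w)
        (by rw [hanti w u, sub_neg_eq_add, ← two_mul]; exact mul_ne_zero htwo hwu)
        (by
          rw [← hres, ← hres, OneMemClass.coe_one]
          have := hω 1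
          rwa [mul_one, h1, one_mul] at this)
      have e : (el w 0 : G) * ((el u a : G) * x) * (el w 0 : G)⁻¹ =
          (el 0 (β w u - β u w) : G) * ((el u a : G) * x) := by
        rw [mul_inv_eq_iff_eq_mul]
        show SemidirectProduct.inl (⟨w, 0⟩ : Heis β) * (SemidirectProduct.inl (⟨u, a⟩ : Heis β) *
            SemidirectProduct.inr h) = SemidirectProduct.inl (⟨0, _⟩ : Heis β) *
            (SemidirectProduct.inl (⟨u, a⟩ : Heis β) * SemidirectProduct.inr h) *
            SemidirectProduct.inl (⟨w, 0⟩ : Heis β)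
        refine SemidirectProduct.ext ?_ ?_
        · simp only [G, SemidirectProduct.mul_left, SemidirectProduct.mul_right, SemidirectProduct.left_inl,
            SemidirectProduct.right_inl, SemidirectProduct.left_inr, SemidirectProduct.right_inr,
            map_one, MulAut.one_apply, one_mul, mul_one]
          rw [show heisAct ρ hinv h (⟨w, 0⟩ : Heis β) = ⟨w, 0⟩ by
            ext <;> simp [heisAct, mem_fixSub.1 hw]]
          rw [heis_comm ⟨w, 0⟩ ⟨u, a⟩, mul_assoc]
        · simp [G]
      have h1 := hirrR.isClassFunction ((el u a : G) * x) (el w 0 : G)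
      rw [e] at h1
      have h3 := hω ((el u a : G) * x)
      by_contra h0
      exact hne (mul_right_cancel₀ h0 ((h3.symm.trans h1).trans (one_mul _).symm))
    have hbij : Function.Bijective (fun z : U × ZMod p => el z.1 z.2) := by
      refine ⟨fun z w hzw => ?_, fun y => ?_⟩
      · have := SemidirectProduct.inl_injective (congrArg Subtype.val hzw)
        exact Prod.ext (congrArg Heis.vec this) (congrArg Heis.sc this)
      · obtain ⟨u, a, rfl⟩ := hel y
        exact ⟨(u, a), rfl⟩
    haveI := Fintype.ofFinite U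
    have h1 := hsum x
    rw [← Fintype.sum_equiv (Equiv.ofBijective _ hbij) (fun z => χ ((el z.1 z.2 : G) * x) *
        conj (χ ((el z.1 z.2 : G) * x))) _ (fun _ => rfl), Fintype.sum_prod_type,
      Finset.sum_congr rfl (g := fun u => if u ∈ movSub ρ h then (p : ℂ) * (χ x * conj (χ x)) else 0)
        (fun u _ => by
          split_ifs with hu
          · simp [hrot u _ hu, Finset.card_univ]
          · simp [hoff u _ hu]),
      ← Finset.sum_filter, Finset.sum_const, nsmul_eq_mul, hn, hKc, map_intCast] at h1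
    have h4 : (Finset.univ.filter fun u => u ∈ movSub ρ h).card = Nat.card (movSub ρ h) := by
      rw [← Fintype.card_subtype, ← Nat.card_eq_fintype_card]
    have hcard : Nat.card (fixSub ρ h) * Nat.card (movSub ρ h) = Nat.card U := by
      rw [← Nat.card_prod]
      exact Nat.card_congr (Submodule.prodEquivOfIsCompl _ _ (isCompl_fix_mov hpH ρ h)).toEquiv
    rw [h4, ← hcard] at h1
    have h5 : ((Nat.card (movSub ρ h) : ℤ) * p) * (n h * n h) =
        ((Nat.card (movSub ρ h) : ℤ) * p) * (Nat.card (fixSub ρ h) : ℤ) := by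
      apply Int.cast_injective (α := ℂ)
      push_cast at h1 ⊢
      linear_combination h1
    exact mul_left_cancel₀ (mul_ne_zero (Int.natCast_ne_zero.2 Nat.card_pos.ne')
      (Int.natCast_ne_zero.2 hp.ne_zero)) h5
  -- the weight
  have hfix1 : fixSub ρ 1 = ⊤ := by simp [fixSub]
  have h11 : n 1 * n 1 = (Nat.card U : ℤ) := by
    rw [habs, hfix1]
    simp
  have hcard : ∀ h, Nat.card (fixSub ρ h) * Nat.card (movSub ρ h) = Nat.card U := fun h => by
    rw [← Nat.card_prod]
    exact Nat.card_congr (Submodule.prodEquivOfIsCompl _ _ (isCompl_fix_mov hpH ρ h)).toEquiv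
  have hdvd : ∀ h, n h ∣ n 1 := fun h => by
    rw [← Int.pow_dvd_pow_iff (two_ne_zero), pow_two, pow_two, habs, h11, Int.natCast_dvd_natCast, ← hcard h]
    exact dvd_mul_right _ _
  choose j hj using hdvd
  have hj2 : ∀ h, j h * j h = (Nat.card (movSub ρ h) : ℤ) := fun h => by
    have h1 : (Nat.card U : ℤ) = (n h * n h) * (j h * j h) := by
      rw [← h11, hj h]; ring
    rw [habs, ← hcard h, Nat.cast_mul] at h1
    exact (mul_left_cancel₀ (Int.natCast_ne_zero.2 Nat.card_pos.ne') h1).symm
  have hπ : InSpan N (fun h => (Nat.card (fixSub ρ h) : ℂ)) := by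
    let π : H →* Equiv.Perm U :=
      { toFun := fun h => (ρ h).toEquiv
        map_one' := by ext u; simp
        map_mul' := fun a b => by ext u; simp }
    convert inSpan_fixCount (N := N) π using 1
    funext h
    congr 1
    exact Nat.card_congr (Equiv.subtypeEquivRight fun u => mem_fixSub)
  obtain ⟨A, hA⟩ := inSpan_recip hp.ne_zero hπ
    (d := fun h => finrank (ZMod p) (fixSub ρ h)) (fun h => Submodule.finrank_le _)
    (fun h => by rw [natCard_module, Nat.cast_pow])
  have hψ : InSpan N (fun h => (j h : ℂ)) := by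
    have h1 := InSpan.smul (intCast_mem (cycInt N) (n 1))
      ((inSpan_of_isCharacter (N := N) (hirrR.isCharacter.comp (SemidirectProduct.inr : H →* G))).mul hA)
    have e1 : ((n 1 : ℂ) • ((fun h => χ (SemidirectProduct.inr h)) *
        fun h => (p : ℂ) ^ A / (Nat.card (fixSub ρ h) : ℂ))) = fun h => (p : ℂ) ^ A * (j h : ℂ) := by
      funext h
      have hne : (Nat.card (fixSub ρ h) : ℂ) ≠ 0 := Nat.cast_ne_zero.2 Nat.card_pos.ne'
      have e2 : ((n 1 * n h : ℤ) : ℂ) = ((j h * Nat.card (fixSub ρ h) : ℤ) : ℂ) := by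
        rw [hj h, ← habs]; push_cast; ring
      push_cast at e2
      simp only [Pi.smul_apply, Pi.mul_apply, smul_eq_mul, hn]
      rw [← mul_assoc, mul_div_assoc', div_eq_iff hne, e2]
      ring
    rw [e1] at h1
    refine inSpan_of_pow_smul hp hpH hHN (fun a b => ?_) (fun h => intCast_mem _ _) h1
    exact mul_left_cancel₀ (pow_ne_zero A (Nat.cast_ne_zero.2 hp.ne_zero)) (h1.isClassFunction a b)
  refine ⟨_, hψ, ?_, fun h => ?_, fun h ⟨u, hu⟩ => ?_⟩
  · have h0 : n 1 ≠ 0 := fun h0 => by
      rw [h0, mul_zero] at h11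
      exact Nat.card_pos.ne' (Int.natCast_eq_zero.1 h11.symm)
    have := hj 1
    have h1 : j 1 = 1 := mul_left_cancel₀ h0 (by rw [mul_one]; exact this.symm)
    simp [h1]
  · rw [map_intCast]
    have := hcard h
    calc (j h : ℂ) * (j h : ℂ) * (Nat.card (fixSub ρ h) : ℂ)
        = ((j h * j h : ℤ) : ℂ) * (Nat.card (fixSub ρ h) : ℂ) := by push_cast; ring
      _ = (Nat.card U : ℂ) := by rw [hj2, Int.cast_natCast, ← Nat.cast_mul, mul_comm, this]
  · have hne : movSub ρ h ≠ ⊥ := fun hb => hu (sub_eq_zero.1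
      ((Submodule.mem_bot _).1 (hb ▸ mem_movSub.2 ⟨u, rfl⟩)))
    have hpj : (p : ℤ) ∣ j h := by
      refine (Nat.prime_iff_prime_int.1 hp).dvd_of_dvd_pow (n := 2) ?_
      rw [pow_two, hj2, Int.natCast_dvd_natCast, natCard_module]
      exact dvd_pow_self p fun h0 => hne (Submodule.finrank_eq_zero.1 h0)
    obtain ⟨c, hc⟩ := hpj
    show MemLocalIdeal M (j h : ℂ)
    rw [hc, Int.cast_mul, Int.cast_natCast]
    exact memLocalIdeal_mul_right hM ((memLocalIdeal_natCast_iff hM p).2 dvd_rfl) (intCast_mem _ _)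

end Cfsg.Lib.Char.RealVector
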