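import Cfsg.Agent.Lib.Char.ClassBoundCriterion
import Cfsg.Agent.Lib.Char.InvolutionSum

/-!
# Combinations of irreducible characters with cyclotomic integral coefficients

They form a ring; a class function with cyclotomic integral values lies in it as soon as a multiple by a
power of a prime not dividing the group order does.
-/

set_option autoImplicit false
set_option linter.unusedSectionVars false

universe u

namespace Cfsg.Lib.Char.RealVector

open Cfsg Cfsg.Lib.Char
open scoped ComplexConjugate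

variable {H : Type u} [Group H] [Finite H] {N : ℕ} [NeZero N]

/-- The span. -/
def InSpan (N : ℕ) (f : H → ℂ) : Prop :=
  ∃ c : IrrCharacter H → ℂ, (∀ l, c l ∈ cycInt N) ∧ f = ∑ᶠ l, c l • (l : H → ℂ)

theorem inSpan_of_isCharacter {f : H → ℂ} (hf : IsCharacter H f) : InSpan N f := by
  classical
  haveI := Fintype.ofFinite H
  obtain ⟨s, rfl⟩ := hf.exists_multiset
  refine ⟨fun l => (s.count l : ℂ), fun l => natCast_mem _ _, ?_⟩
  rw [finsum_eq_sum_of_fintype, Finset.sum_multiset_map_count]
  refine (Finset.sum_subset (Finset.subset_univ _) fun l _ hl => ?_).trans ?_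
  · rw [Multiset.count_eq_zero_of_notMem (fun h => hl (Multiset.mem_toFinset.2 h)), zero_smul]
  · exact Finset.sum_congr rfl fun l _ => (Nat.cast_smul_eq_nsmul ℂ _ _).symm

theorem InSpan.add {f g : H → ℂ} : InSpan N f → InSpan N g → InSpan N (f + g) := by
  classical
  haveI := Fintype.ofFinite H
  rintro ⟨c, hc, rfl⟩ ⟨d, hd, rfl⟩
  refine ⟨fun l => c l + d l, fun l => add_mem (hc l) (hd l), ?_⟩
  simp only [finsum_eq_sum_of_fintype, add_smul, Finset.sum_add_distrib]

theorem InSpan.smul {f : H → ℂ} {a : ℂ} (ha : a ∈ cycInt N) : InSpan N f → InSpan N (a • f) := by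
  classical
  haveI := Fintype.ofFinite H
  rintro ⟨c, hc, rfl⟩
  refine ⟨fun l => a * c l, fun l => mul_mem ha (hc l), ?_⟩
  simp only [finsum_eq_sum_of_fintype, Finset.smul_sum, mul_smul]

theorem inSpan_zero : InSpan N (0 : H → ℂ) := ⟨0, fun _ => zero_mem _, by simp⟩

theorem inSpan_sum {ι : Type*} (s : Finset ι) {f : ι → H → ℂ} (h : ∀ i ∈ s, InSpan N (f i)) :
    InSpan N (∑ i ∈ s, f i) :=
  Finset.sum_induction f (InSpan N) (fun _ _ => InSpan.add) inSpan_zero h

theorem InSpan.mul {f g : H → ℂ} : InSpan N f → InSpan N g → InSpan N (f * g) := by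
  classical
  haveI := Fintype.ofFinite H
  rintro ⟨c, hc, rfl⟩ ⟨d, hd, rfl⟩
  simp only [finsum_eq_sum_of_fintype, Finset.sum_mul_sum]
  refine inSpan_sum _ fun l _ => inSpan_sum _ fun k _ => ?_
  rw [smul_mul_smul_comm]
  exact InSpan.smul (mul_mem (hc l) (hd k)) (inSpan_of_isCharacter (l.2.isCharacter.mul k.2.isCharacter))

theorem inSpan_const {a : ℂ} (ha : a ∈ cycInt N) : InSpan N (fun _ : H => a) := by
  have h := InSpan.smul ha (inSpan_of_isCharacter (N := N) (isCharacter_one (G := H)))
  convert h using 1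
  funext x
  simp

theorem InSpan.isClassFunction {f : H → ℂ} : InSpan N f → IsClassFunction H f := by
  classical
  haveI := Fintype.ofFinite H
  rintro ⟨c, -, rfl⟩ a b
  simp only [finsum_eq_sum_of_fintype, Finset.sum_apply, Pi.smul_apply]
  exact Finset.sum_congr rfl fun l _ => by rw [l.2.isClassFunction a b]

theorem InSpan.apply_mem (hN : Nat.card H ∣ N) {f : H → ℂ} (hf : InSpan N f) (h : H) : f h ∈ cycInt N := by
  classical
  haveI := Fintype.ofFinite H
  obtain ⟨c, hc, rfl⟩ := hf
  simp only [finsum_eq_sum_of_fintype, Finset.sum_apply, Pi.smul_apply, smul_eq_mul]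
  exact sum_mem fun l _ => mul_mem (hc l) (char_mem_cycInt hN l.2.isCharacter h)

theorem conj_mem {z : ℂ} (hN : Nat.card H ∣ N) {χ : H → ℂ} (hχ : IsCharacter H χ) (h : H) (hz : z = χ h) :
    conj z ∈ cycInt N := by
  rw [hz, ← hχ.apply_inv]
  exact char_mem_cycInt hN hχ h⁻¹

/-- The number of fixed points of an action. -/
theorem inSpan_fixCount {A : Type*} [Finite A] (π : H →* Equiv.Perm A) :
    InSpan N (fun h => (Nat.card {a // π h a = a} : ℂ)) := by
  classical
  haveI := Fintype.ofFinite A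
  let e := Fintype.equivFin A
  have h := inSpan_of_isCharacter (N := N) (isCharacter_fixedCount (e.permCongrHom.toMonoidHom.comp π))
  convert h using 1
  funext g
  congr 1
  rw [Nat.card_eq_fintype_card, Fintype.card_subtype]
  refine Finset.card_equiv e fun a => ?_
  simp only [Finset.mem_filter, Finset.mem_univ, true_and]
  exact ⟨fun h => by simp [Equiv.permCongrHom, h], fun h => by simpa [Equiv.permCongrHom] using h⟩

/-- A reciprocal. -/
theorem inSpan_recip {p : ℕ} (hp : p ≠ 0) {f : H → ℂ} (hf : InSpan N f) {m : ℕ} {d : H → ℕ}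
    (hd : ∀ h, d h ≤ m) (hfd : ∀ h, f h = (p : ℂ) ^ d h) :
    ∃ A : ℕ, InSpan N (fun h => (p : ℂ) ^ A / f h) := by
  have key : ∀ n : ℕ, ∃ (A : ℕ) (s : H → ℂ), InSpan N s ∧
      ∀ h, (p : ℂ) ^ A = f h * s h + ∏ i ∈ Finset.range n, ((p : ℂ) ^ i - f h) := by
    intro n
    induction n with
    | zero => exact ⟨0, 0, inSpan_zero, fun h => by simp⟩
    | succ n ih =>
      obtain ⟨A, s, hs, h⟩ := ih
      refine ⟨A + n, fun h => (p : ℂ) ^ n * s h + ∏ i ∈ Finset.range n, ((p : ℂ) ^ i - f h), ?_, fun x => ?_⟩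
      · have hc : InSpan N (fun h => ∏ i ∈ Finset.range n, ((p : ℂ) ^ i - f h)) := by
          clear h
          induction n with
          | zero => simpa using inSpan_const (H := H) (one_mem (cycInt N))
          | succ n ih =>
            simp only [Finset.prod_range_succ]
            refine ih.mul ?_
            have := InSpan.add (inSpan_const (H := H) (pow_mem (natCast_mem (cycInt N) p) n))
              (InSpan.smul (neg_mem (one_mem (cycInt N))) hf)
            convert this using 1
            funext y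
            simp [sub_eq_add_neg]
        exact InSpan.add (InSpan.smul (pow_mem (natCast_mem _ p) n) hs) hc
      · rw [Finset.prod_range_succ, pow_add, h x]
        ring
  obtain ⟨A, s, hs, h⟩ := key (m + 1)
  refine ⟨A, ?_⟩
  convert hs using 1
  funext x
  rw [h x, Finset.prod_eq_zero (Finset.mem_range.2 (Nat.lt_succ_of_le (hd x))) (by rw [hfd, sub_self]), add_zero,
    mul_div_cancel_left₀ _ (by rw [hfd]; exact pow_ne_zero _ (Nat.cast_ne_zero.2 hp))]

/-- Removing a power of `p`. -/
theorem inSpan_of_pow_smul {p : ℕ} (hp : p.Prime) (hpH : ¬ p ∣ Nat.card H) (hN : Nat.card H ∣ N) {ψ : H → ℂ}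
    (hψ : IsClassFunction H ψ) (hval : ∀ h, ψ h ∈ cycInt N) {A : ℕ}
    (h : InSpan N (fun h => (p : ℂ) ^ A * ψ h)) : InSpan N ψ := by
  classical
  haveI := Fintype.ofFinite H
  refine ⟨fun l => classInner ψ (l : H → ℂ), fun l => ?_, by
    rw [finsum_eq_sum_of_fintype]; exact eq_sum_classInner hψ⟩
  have h1 : (Nat.card H : ℂ) * classInner ψ (l : H → ℂ) ∈ cycInt N := by
    rw [classInner, ← mul_assoc, mul_inv_cancel₀ (Nat.cast_ne_zero.2 Nat.card_pos.ne'), one_mul]
    exact sum_mem fun x _ => mul_mem (hval x) (conj_mem hN l.2.isCharacter x rfl)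
  obtain ⟨c, hc, he⟩ := h
  have h2 : (p : ℂ) ^ A * classInner ψ (l : H → ℂ) ∈ cycInt N := by
    rw [← classInner_smul_left, show ((p : ℂ) ^ A • ψ) = fun h => (p : ℂ) ^ A * ψ h from rfl, he,
      finsum_eq_sum_of_fintype, classInner_sum_left, Finset.sum_eq_single l]
    · rw [classInner_smul_left, classInner_irr_self l.2, mul_one]; exact hc l
    · intro k _ hk
      rw [classInner_smul_left, classInner_irr_ne k.2 l.2 (fun e => hk (Subtype.ext e)), mul_zero]
    · intro h; exact absurd (Finset.mem_univ l) h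
  have hcop : IsCoprime ((p : ℤ) ^ A) (Nat.card H : ℤ) :=
    (Int.isCoprime_iff_nat_coprime.2 (by simpa using (hp.coprime_iff_not_dvd.2 hpH))).pow_left
  obtain ⟨a, b, hab⟩ := hcop
  have hab' : (a : ℂ) * (p : ℂ) ^ A + (b : ℂ) * (Nat.card H : ℂ) = 1 := by exact_mod_cast hab
  show classInner ψ (l : H → ℂ) ∈ _
  rw [show classInner ψ (l : H → ℂ) = (a : ℂ) * ((p : ℂ) ^ A * classInner ψ (l : H → ℂ)) +
    (b : ℂ) * ((Nat.card H : ℂ) * classInner ψ (l : H → ℂ)) by rw [← mul_assoc, ← mul_assoc, ← add_mul, hab', one_mul]]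
  exact add_mem (mul_mem (intCast_mem _ a) h2) (mul_mem (intCast_mem _ b) h1)

end Cfsg.Lib.Char.RealVector
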