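import Cfsg.Agent.Lib.Char.RealVector.Heisenberg

/-!
# Weights for self-dual coprime modules

A module with an invariant non-degenerate pairing has a weight: split it into orthogonal pieces; a piece is
irreducible, or a sum of two isotropic submodules.
-/

set_option autoImplicit false
set_option linter.unusedSectionVars false

universe v

namespace Cfsg.Lib.Char.RealVector

open Cfsg Cfsg.Lib.Char Cfsg.Lib.Block Module
open scoped ComplexConjugate

variable {p : ℕ} [Fact p.Prime] {H : Type v} [Group H] [Finite H] {N : ℕ} [NeZero N] {M : Ideal AlgInt}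
  {U : Type v} [AddCommGroup U] [Module (ZMod p) U] [Finite U]

theorem zmod_two_add_eq_zero : ∀ x y : ZMod 2, x + y = 0 → y = x := by decide

theorem zmod_two_sq : ∀ x : ZMod 2, x * x = x := by decide

theorem zmod_two_ne_zero : ∀ x : ZMod 2, x ≠ 0 → x = 1 := by decide

/-- The restricted action. -/
def restr (ρ : H →* (U ≃ₗ[ZMod p] U)) (W : Submodule (ZMod p) U) (hW : ∀ h, ∀ w ∈ W, ρ h w ∈ W) :
    H →* (W ≃ₗ[ZMod p] W) where
  toFun h :=
    { toFun := fun w => ⟨ρ h w, hW h w w.2⟩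
      map_add' := fun a b => Subtype.ext (map_add (ρ h) (a : U) b)
      map_smul' := fun c a => Subtype.ext (map_smul (ρ h) c (a : U))
      invFun := fun w => ⟨ρ h⁻¹ w, hW h⁻¹ w w.2⟩
      left_inv := fun w => Subtype.ext (by simp [← LinearEquiv.mul_apply, ← map_mul, ← map_inv])
      right_inv := fun w => Subtype.ext (by simp [← LinearEquiv.mul_apply, ← map_mul, ← map_inv]) }
  map_one' := by ext w; simp
  map_mul' a b := by ext w; simp

theorem restr_apply (ρ : H →* (U ≃ₗ[ZMod p] U)) (W : Submodule (ZMod p) U) (hW : ∀ h, ∀ w ∈ W, ρ h w ∈ W)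
    (h : H) (w : W) : ((restr ρ W hW h w : W) : U) = ρ h w := rfl

theorem weight_trivial (ρ : H →* (U ≃ₗ[ZMod p] U)) (h : ∀ g u, ρ g u = u) : Weight M N ρ := by
  refine ⟨fun _ => 1, inSpan_const (one_mem _), rfl, fun g => ?_, fun g ⟨u, hu⟩ => absurd (h g u) hu⟩
  rw [show fixSub ρ g = ⊤ from Submodule.eq_top_iff'.2 fun u => mem_fixSub.2 (h g u)]
  simp

/-- Weights multiply along invariant decompositions. -/
theorem weight_prod (hM : IsPModular p M) (hHN : Nat.card H ∣ N) (ρ : H →* (U ≃ₗ[ZMod p] U))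
    {W W' : Submodule (ZMod p) U} (hc : IsCompl W W') (hW : ∀ h, ∀ w ∈ W, ρ h w ∈ W)
    (hW' : ∀ h, ∀ w ∈ W', ρ h w ∈ W') (h1 : Weight M N (restr ρ W hW)) (h2 : Weight M N (restr ρ W' hW')) :
    Weight M N ρ := by
  obtain ⟨a, ha, ha1, hac, haM⟩ := h1
  obtain ⟨b, hb, hb1, hbc, hbM⟩ := h2
  let e := Submodule.prodEquivOfIsCompl W W' hc
  refine ⟨a * b, ha.mul hb, by simp [ha1, hb1], fun h => ?_, fun h ⟨u, hu⟩ => ?_⟩
  · have hfix : Nat.card (fixSub ρ h) =
        Nat.card (fixSub (restr ρ W hW) h) * Nat.card (fixSub (restr ρ W' hW') h) := by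
      rw [← Nat.card_prod]
      refine (Nat.card_congr (Equiv.ofBijective
        (fun z : fixSub (restr ρ W hW) h × fixSub (restr ρ W' hW') h => (⟨(z.1.1 : U) + z.2.1, mem_fixSub.2 (by
          rw [map_add, ← restr_apply ρ W hW, ← restr_apply ρ W' hW', mem_fixSub.1 z.1.2, mem_fixSub.1 z.2.2])⟩ :
          fixSub ρ h)) ⟨fun x y hxy => ?_, fun x => ?_⟩)).symm
      · have hh : e (x.1.1, x.2.1) = e (y.1.1, y.2.1) := by
          simpa [e] using congrArg Subtype.val hxy
        have := e.injective hh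
        exact Prod.ext (Subtype.ext (congrArg Prod.fst this)) (Subtype.ext (congrArg Prod.snd this))
      · obtain ⟨⟨c, d⟩, hcd⟩ := e.surjective x.1
        have h0 : e (restr ρ W hW h c, restr ρ W' hW' h d) = e (c, d) := by
          have := mem_fixSub.1 x.2
          rw [← hcd] at this
          simpa [e, restr_apply] using this
        have := e.injective h0
        exact ⟨(⟨c, mem_fixSub.2 (congrArg Prod.fst this)⟩, ⟨d, mem_fixSub.2 (congrArg Prod.snd this)⟩),
          Subtype.ext (by simpa [e] using hcd)⟩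
    rw [← Nat.card_congr e.toEquiv, Nat.card_prod, hfix, Nat.cast_mul, Nat.cast_mul, ← hac h, ← hbc h, Pi.mul_apply,
      map_mul]
    ring
  · have hint : ∀ {f : H → ℂ}, InSpan N f → f h ∈ locRing hM := fun hf =>
      isIntegral_mem_locRing hM (mem_cycInt.1 (InSpan.apply_mem hHN hf h)).2
    obtain ⟨⟨c, d⟩, rfl⟩ := e.surjective u
    by_cases hc' : restr ρ W hW h c = c
    · by_cases hd' : restr ρ W' hW' h d = d
      · refine absurd ?_ hu
        show ρ h (Submodule.prodEquivOfIsCompl W W' hc (c, d)) = Submodule.prodEquivOfIsCompl W W' hc (c, d)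
        rw [Submodule.coe_prodEquivOfIsCompl', map_add, ← restr_apply ρ W hW, ← restr_apply ρ W' hW', hc', hd']
      · exact memLocalIdeal_mul_left hM (hint ha) (hbM h ⟨d, hd'⟩)
    · exact memLocalIdeal_mul_right hM (haM h ⟨c, hc'⟩) (hint hb)

/-- Maschke. -/
theorem exists_invariant_isCompl (hpH : ¬ p ∣ Nat.card H) (ρ : H →* (U ≃ₗ[ZMod p] U)) (R : Submodule (ZMod p) U)
    (hR : ∀ h, ∀ w ∈ R, ρ h w ∈ R) : ∃ Q, IsCompl R Q ∧ ∀ h, ∀ w ∈ Q, ρ h w ∈ Q := by
  classical
  haveI := Fintype.ofFinite H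
  obtain ⟨g, hg⟩ := LinearMap.exists_leftInverse_of_injective R.subtype (Submodule.ker_subtype R)
  let π : U →ₗ[ZMod p] U := (Nat.card H : ZMod p)⁻¹ •
    ∑ h : H, (ρ h : U →ₗ[ZMod p] U) ∘ₗ R.subtype ∘ₗ g ∘ₗ (ρ h⁻¹ : U →ₗ[ZMod p] U)
  have hπ : ∀ u, π u = (Nat.card H : ZMod p)⁻¹ • ∑ h : H, ρ h (g (ρ h⁻¹ u)) := fun u => by
    simp [π, LinearMap.sum_apply]
  have hπR : ∀ u, π u ∈ R := fun u => by
    rw [hπ]
    exact R.smul_mem _ (R.sum_mem fun h _ => hR h _ (g _).2)
  have hfix : ∀ r ∈ R, π r = r := fun r hr => by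
    have : ∀ h : H, ρ h (g (ρ h⁻¹ r)) = r := fun h => by
      have h1 := LinearMap.congr_fun hg ⟨ρ h⁻¹ r, hR _ r hr⟩
      simp only [LinearMap.comp_apply, Submodule.subtype_apply, LinearMap.id_apply] at h1
      rw [h1]
      simp [← LinearEquiv.mul_apply, ← map_mul, ← map_inv]
    rw [hπ, Finset.sum_congr rfl fun h _ => this h, Finset.sum_const, Finset.card_univ,
      ← Nat.card_eq_fintype_card, ← Nat.cast_smul_eq_nsmul (ZMod p), smul_smul,
      inv_mul_cancel₀ (by rwa [Ne, ZMod.natCast_eq_zero_iff]), one_smul]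
  have heq : ∀ k u, π (ρ k u) = ρ k (π u) := fun k u => by
    rw [hπ, hπ, map_smul, map_sum]
    congr 1
    refine Fintype.sum_equiv (Equiv.mulLeft k⁻¹) _ _ fun h => ?_
    simp [← LinearEquiv.mul_apply, ← map_mul, ← map_inv]
  refine ⟨LinearMap.ker π, ⟨?_, ?_⟩, fun h w hw => ?_⟩
  · rw [Submodule.disjoint_def]
    intro x hx hx'
    rw [← hfix x hx]
    exact hx'
  · rw [codisjoint_iff, Submodule.eq_top_iff']
    intro u
    rw [Submodule.mem_sup]
    exact ⟨π u, hπR u, u - π u, by rw [LinearMap.mem_ker, map_sub, hfix _ (hπR u), sub_self],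
      add_sub_cancel _ _⟩
  · rw [LinearMap.mem_ker] at hw ⊢
    rw [heq, hw, map_zero]

/-- A non-degenerate pairing of spaces of equal dimension is non-degenerate on both sides. -/
theorem nondeg_swap {A C : Submodule (ZMod p) U} (B : U →ₗ[ZMod p] U →ₗ[ZMod p] ZMod p)
    (hl : ∀ a ∈ A, (∀ c ∈ C, B a c = 0) → a = 0) (hd : finrank (ZMod p) A = finrank (ZMod p) C) :
    ∀ c ∈ C, (∀ a ∈ A, B a c = 0) → c = 0 := by
  intro c hc h
  let f : A →ₗ[ZMod p] Dual (ZMod p) C := (B.compl₂ C.subtype).domRestrict A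
  have hf : Function.Injective f := (injective_iff_map_eq_zero f).2 fun a ha =>
    Subtype.ext (hl a a.2 fun c hc => LinearMap.congr_fun ha ⟨c, hc⟩)
  have hs : Function.Surjective f :=
    (LinearMap.injective_iff_surjective_of_finrank_eq_finrank (by rw [Subspace.dual_finrank_eq, hd])).1 hf
  have : ∀ φ : Dual (ZMod p) C, φ ⟨c, hc⟩ = 0 := fun φ => by
    obtain ⟨a, rfl⟩ := hs φ
    exact h a a.2
  exact congrArg Subtype.val ((Module.forall_dual_apply_eq_zero_iff (ZMod p) _).1 this)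

/-- A weight exists for a module with an invariant non-degenerate pairing. -/
theorem weight_of_pairing (hM : IsPModular p M) (hpH : ¬ p ∣ Nat.card H) (hHN : Nat.card H ∣ N) (hpN : p ∣ N) :
    ∀ (n : ℕ) (U : Type v) [AddCommGroup U] [Module (ZMod p) U] [Finite U], Nat.card U = n →
      ∀ (ρ : H →* (U ≃ₗ[ZMod p] U)) (B : U →ₗ[ZMod p] U →ₗ[ZMod p] ZMod p),
        (∀ h a b, B (ρ h a) (ρ h b) = B a b) → (∀ a, (∀ b, B a b = 0) → a = 0) → Weight M N ρ := by
  classical
  intro n
  induction n using Nat.strong_induction_on with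
  | _ n ih =>
  intro U _ _ _ hn ρ B hinv hnd
  haveI : Module.Finite (ZMod p) U := Module.Finite.of_finite
  by_cases htriv : ∀ g u, ρ g u = u
  · exact weight_trivial ρ htriv
  have hinv' : ∀ h a b, B (ρ h a) b = B a (ρ h⁻¹ b) := fun h a b => by
    conv_lhs => rw [show b = ρ h (ρ h⁻¹ b) by simp [← LinearEquiv.mul_apply, ← map_mul, ← map_inv]]
    exact hinv h a _
  have hinv'' : ∀ h a b, B a (ρ h b) = B (ρ h⁻¹ a) b := fun h a b => by
    rw [hinv' h⁻¹, inv_inv]
  have hndr : ∀ b, (∀ a, B a b = 0) → b = 0 := fun b hb =>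
    nondeg_swap (A := ⊤) (C := ⊤) B (fun a _ h => hnd a fun c => h c trivial) rfl b trivial fun a _ => hb a
  by_cases hsplit : ∃ W : Submodule (ZMod p) U, (∀ h, ∀ w ∈ W, ρ h w ∈ W) ∧ W ≠ ⊥ ∧ W ≠ ⊤ ∧
      ∀ w ∈ W, (∀ x ∈ W, B w x = 0) → w = 0
  · obtain ⟨W, hW, hWb, hWt, hWnd⟩ := hsplit
    let f : U →ₗ[ZMod p] Dual (ZMod p) W := (B.flip.domRestrict W).flip
    let P := LinearMap.ker f
    have hmem : ∀ u, u ∈ P ↔ ∀ w ∈ W, B u w = 0 := fun u => by
      rw [LinearMap.mem_ker]
      exact ⟨fun h w hw => LinearMap.congr_fun h ⟨w, hw⟩, fun h => LinearMap.ext fun w => h w w.2⟩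
    have hP : ∀ h, ∀ u ∈ P, ρ h u ∈ P := fun h u hu => (hmem _).2 fun w hw => by
      rw [hinv']; exact (hmem u).1 hu _ (hW _ w hw)
    have hdisj : Disjoint W P := Submodule.disjoint_def.2 fun x hx hx' => hWnd x hx ((hmem x).1 hx')
    have hc : IsCompl W P := by
      refine ⟨hdisj, codisjoint_iff.2 (Submodule.eq_top_of_finrank_eq ?_)⟩
      have h1 := Submodule.finrank_sup_add_finrank_inf_eq W P
      rw [disjoint_iff.1 hdisj, finrank_bot, add_zero] at h1
      have h2 : finrank (ZMod p) (LinearMap.range f) + finrank (ZMod p) P = finrank (ZMod p) U :=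
        LinearMap.finrank_range_add_finrank_ker f
      have h3 := Submodule.finrank_le (LinearMap.range f)
      rw [Subspace.dual_finrank_eq] at h3
      have h4 := Submodule.finrank_le (W ⊔ P)
      omega
    have hlt : ∀ {A A' : Submodule (ZMod p) U}, IsCompl A A' → A' ≠ ⊥ → Nat.card A < n := by
      intro A A' hAA hA'
      rw [← hn, ← Nat.card_congr (Submodule.prodEquivOfIsCompl _ _ hAA).toEquiv, Nat.card_prod]
      haveI : Nontrivial A' := Submodule.nontrivial_iff_ne_bot.2 hA'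
      exact lt_mul_of_one_lt_right Nat.card_pos Finite.one_lt_card
    refine weight_prod hM hHN ρ hc hW hP
      (ih _ (hlt hc (fun h => hWt (by rw [h] at hc; exact eq_top_of_isCompl_bot hc))) W rfl _
        (B.domRestrict₁₂ W W) (fun h a b => hinv h a b) fun a ha => Subtype.ext (hWnd a a.2 fun x hx => ha ⟨x, hx⟩))
      (ih _ (hlt hc.symm hWb) P rfl _ (B.domRestrict₁₂ P P) (fun h a b => hinv h a b) fun a ha => ?_)
    refine Subtype.ext (hnd a fun b => ?_)
    obtain ⟨⟨c, d⟩, rfl⟩ := (Submodule.prodEquivOfIsCompl _ _ hc).surjective b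
    rw [Submodule.coe_prodEquivOfIsCompl', map_add, (hmem a).1 a.2 c c.2, zero_add]
    exact ha d
  push Not at hsplit
  -- no proper non-degenerate invariant submodule
  obtain ⟨W, hW, hWb, hWmin⟩ : ∃ W : Submodule (ZMod p) U, (∀ h, ∀ w ∈ W, ρ h w ∈ W) ∧ W ≠ ⊥ ∧
      ∀ K : Submodule (ZMod p) U, (∀ h, ∀ w ∈ K, ρ h w ∈ K) → K ≤ W → K = ⊥ ∨ K = W := by
    have htop : (⊤ : Submodule (ZMod p) U) ≠ ⊥ := fun h => htriv fun g u => by
      have : ∀ x : U, x = 0 := fun x => (Submodule.mem_bot _).1 (h ▸ Submodule.mem_top)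
      rw [this u, map_zero]
    obtain ⟨W, ⟨hW, hWb⟩, hmin⟩ := Set.Finite.exists_minimal (Set.toFinite
      {W : Submodule (ZMod p) U | (∀ h, ∀ w ∈ W, ρ h w ∈ W) ∧ W ≠ ⊥}) ⟨⊤, fun _ _ _ => trivial, htop⟩
    refine ⟨W, hW, hWb, fun K hK hKW => ?_⟩
    by_cases hKb : K = ⊥
    · exact Or.inl hKb
    · exact Or.inr (le_antisymm hKW (hmin ⟨hK, hKb⟩ hKW))
  by_cases hWt : W = ⊤
  · -- irreducible
    subst hWt
    let s : U →ₗ[ZMod p] U →ₗ[ZMod p] ZMod p := B + B.flip
    have hsinv : ∀ h, ∀ d ∈ LinearMap.ker s, ρ h d ∈ LinearMap.ker s := fun h d hd => by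
      rw [LinearMap.mem_ker] at hd ⊢
      refine LinearMap.ext fun b => ?_
      have h1 := LinearMap.congr_fun hd (ρ h⁻¹ b)
      simp only [s, LinearMap.add_apply, LinearMap.flip_apply, LinearMap.zero_apply] at h1 ⊢
      rw [hinv' h d b, hinv'' h b d]
      exact h1
    rcases hWmin _ hsinv le_top with hs | hs
    · refine weight_gauss hM hpH hHN hpN ρ (fun u => B u u) (fun h u => hinv h u u)
        (LinearMap.toAddMonoidHom'.comp s.toAddMonoidHom)
        (fun a b => ?_) (fun d hd => (Submodule.mem_bot (R := ZMod p)).1 (hs ▸ LinearMap.mem_ker.2 ?_))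
      · show B (a + b) (a + b) = B a a + B b b + (B a b + B b a)
        simp only [map_add, LinearMap.add_apply]
        ring
      · refine LinearMap.ext fun a => ?_
        have : B a d + B d a = 0 := hd a
        show B d a + B a d = 0
        rw [add_comm, this]
    · have hanti : ∀ a b, B a b + B b a = 0 := fun a b => by
        have : a ∈ LinearMap.ker s := hs ▸ Submodule.mem_top
        exact LinearMap.congr_fun (LinearMap.mem_ker.1 this) b
      by_cases hp2 : p = 2
      · subst hp2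
        have hsymm : ∀ a b, B b a = B a b := fun a b =>
          zmod_two_add_eq_zero _ _ (hanti a b)
        let L : U →ₗ[ZMod 2] ZMod 2 := (⟨⟨fun u => B u u, fun a b => by
          simp only [map_add, LinearMap.add_apply]
          linear_combination hanti a b⟩, fun c u => by
          simp only [map_smul, LinearMap.smul_apply, RingHom.id_apply, smul_eq_mul]
          rw [← mul_assoc, show c * c = c from zmod_two_sq c]⟩ : U →ₗ[ZMod 2] ZMod 2)
        have hL : ∀ h, ∀ w ∈ LinearMap.ker L, ρ h w ∈ LinearMap.ker L := fun h w hw => by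
          rw [LinearMap.mem_ker] at hw ⊢
          show B (ρ h w) (ρ h w) = 0
          rw [hinv]; exact hw
        rcases hWmin _ hL le_top with hk | hk
        · exact absurd (fun g u => LinearMap.ker_eq_bot.1 hk (show L (ρ g u) = L u from hinv g u u)) htriv
        · have halt : ∀ a, B a a = 0 := fun a =>
            (show a ∈ LinearMap.ker L from hk ▸ Submodule.mem_top)
          haveI := Fintype.ofFinite H
          let b := Module.finBasis (ZMod 2) U
          let q0 : U → ZMod 2 := fun u => ∑ i, ∑ j, if i < j then b.repr u i * b.repr u j * B (b i) (b j) else 0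
          have hB : ∀ u w, B u w = ∑ i, ∑ j, b.repr u i * b.repr w j * B (b i) (b j) := fun u w => by
            conv_lhs => rw [← b.sum_repr u, ← b.sum_repr w]
            simp only [map_sum, LinearMap.sum_apply, map_smul, LinearMap.smul_apply, smul_eq_mul, Finset.mul_sum]
            rw [Finset.sum_comm]
            exact Finset.sum_congr rfl fun i _ => Finset.sum_congr rfl fun j _ => by ring
          have hq0 : ∀ u w, q0 (u + w) = q0 u + q0 w + B u w := fun u w => by
            have e1 : ∀ (F : Fin (finrank (ZMod 2) U) → Fin (finrank (ZMod 2) U) → ZMod 2), (∀ i, F i i = 0) →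
                ∑ i, ∑ j, F i j = ∑ i, ∑ j, if i < j then F i j + F j i else 0 := by
              intro F hF
              have h1 : ∀ i j, (if i < j then F i j + F j i else 0) =
                  (if i < j then F i j else 0) + (if i < j then F j i else 0) := fun i j => by
                split_ifs <;> simp
              simp only [h1, Finset.sum_add_distrib]
              conv_rhs => arg 2; rw [Finset.sum_comm]
              rw [← Finset.sum_add_distrib]
              refine Finset.sum_congr rfl fun i _ => ?_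
              rw [← Finset.sum_add_distrib]
              refine Finset.sum_congr rfl fun j _ => ?_
              rcases lt_trichotomy i j with h | h | h
              · simp [h, h.not_gt]
              · subst h; simp [hF]
              · simp [h, h.not_gt]
            rw [hB u w, e1 _ (fun i => by rw [halt, mul_zero]), ← Finset.sum_add_distrib, ← Finset.sum_add_distrib]
            refine Finset.sum_congr rfl fun i _ => ?_
            rw [← Finset.sum_add_distrib, ← Finset.sum_add_distrib]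
            refine Finset.sum_congr rfl fun j _ => ?_
            simp only [map_add, Finsupp.add_apply]
            split_ifs
            · rw [hsymm (b i) (b j)]; ring
            · simp
          refine weight_gauss hM hpH hHN hpN ρ (fun u => ∑ h : H, q0 (ρ h u)) (fun g u => ?_)
            (LinearMap.toAddMonoidHom'.comp B.toAddMonoidHom) (fun a c => ?_) (fun d hd => hndr d hd)
          · refine Fintype.sum_equiv (Equiv.mulRight g) _ _ fun h => ?_
            simp [← LinearEquiv.mul_apply, ← map_mul, ← map_inv]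
          · show _ = _ + _ + B a c
            simp only [map_add, hq0, hinv, Finset.sum_add_distrib, Finset.sum_const, Finset.card_univ]
            rw [← Nat.card_eq_fintype_card, nsmul_eq_mul,
              show (Nat.card H : ZMod 2) = 1 from zmod_two_ne_zero _
                (by rwa [Ne, ZMod.natCast_eq_zero_iff]), one_mul]
      · have htwo : (2 : ZMod p) ≠ 0 := fun h0 => hp2 ((Nat.prime_dvd_prime_iff_eq Fact.out Nat.prime_two).1
          ((ZMod.natCast_eq_zero_iff 2 p).1 (by exact_mod_cast h0)))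
        exact weight_heisenberg hM hpH hHN hp2 ρ (LinearMap.toAddMonoidHom'.comp B.toAddMonoidHom)
          (fun h a b => hinv h a b)
          (fun a => (mul_eq_zero.1 (show (2 : ZMod p) * B a a = 0 by rw [two_mul]; exact hanti a a)).resolve_left htwo)
          (fun d hd => hndr d hd)
  -- `W` is isotropic
  obtain ⟨w₀, hw₀, hw₀0, hw₀W⟩ := hsplit W hW hWb hWt
  have hiso : ∀ a ∈ W, ∀ c ∈ W, B a c = 0 := by
    let K := W ⊓ LinearMap.ker ((B.flip.domRestrict W).flip)
    have hK : ∀ h, ∀ w ∈ K, ρ h w ∈ K := fun h w hw => ⟨hW h w hw.1, LinearMap.ext fun x => by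
      show B (ρ h w) x = 0
      rw [hinv']
      exact LinearMap.congr_fun hw.2 ⟨_, hW h⁻¹ x x.2⟩⟩
    rcases hWmin K hK inf_le_left with hk | hk
    · exact absurd ((Submodule.mem_bot (R := ZMod p)).1 (hk ▸ (⟨hw₀, LinearMap.ext fun x => hw₀0 x x.2⟩ : w₀ ∈ K)))
        hw₀W
    · intro a ha c hc
      have : a ∈ K := hk.symm ▸ ha
      exact LinearMap.congr_fun this.2 ⟨c, hc⟩
  -- complements of the two orthogonals of `W`
  let R := LinearMap.ker ((B.domRestrict W).flip)
  have hRmem : ∀ u, u ∈ R ↔ ∀ w ∈ W, B w u = 0 := fun u => by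
    rw [LinearMap.mem_ker]
    exact ⟨fun h w hw => LinearMap.congr_fun h ⟨w, hw⟩, fun h => LinearMap.ext fun w => h w w.2⟩
  let L := LinearMap.ker ((B.flip.domRestrict W).flip)
  have hLmem : ∀ u, u ∈ L ↔ ∀ w ∈ W, B u w = 0 := fun u => by
    rw [LinearMap.mem_ker]
    exact ⟨fun h w hw => LinearMap.congr_fun h ⟨w, hw⟩, fun h => LinearMap.ext fun w => h w w.2⟩
  obtain ⟨Q, hQc, hQ⟩ := exists_invariant_isCompl hpH ρ R fun h u hu => (hRmem _).2 fun w hw => by
    rw [hinv'']; exact (hRmem u).1 hu _ (hW _ w hw)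
  obtain ⟨Q', hQc', hQ'⟩ := exists_invariant_isCompl hpH ρ L fun h u hu => (hLmem _).2 fun w hw => by
    rw [hinv']; exact (hLmem u).1 hu _ (hW _ w hw)
  have hQr : ∀ q ∈ Q, (∀ w ∈ W, B w q = 0) → q = 0 := fun q hq h =>
    Submodule.disjoint_def.1 hQc.disjoint q ((hRmem q).2 h) hq
  have hQl : ∀ w ∈ W, (∀ q ∈ Q, B w q = 0) → w = 0 := fun w hw h => hnd w fun b => by
    obtain ⟨⟨c, d⟩, rfl⟩ := (Submodule.prodEquivOfIsCompl _ _ hQc).surjective b
    rw [Submodule.coe_prodEquivOfIsCompl', map_add, (hRmem _).1 c.2 w hw, zero_add]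
    exact h d d.2
  have hQl' : ∀ q ∈ Q', (∀ w ∈ W, B q w = 0) → q = 0 := fun q hq h =>
    Submodule.disjoint_def.1 hQc'.disjoint q ((hLmem q).2 h) hq
  have hQr' : ∀ w ∈ W, (∀ q ∈ Q', B q w = 0) → w = 0 := fun w hw h => hndr w fun a => by
    obtain ⟨⟨c, d⟩, rfl⟩ := (Submodule.prodEquivOfIsCompl _ _ hQc').surjective a
    rw [Submodule.coe_prodEquivOfIsCompl', map_add, LinearMap.add_apply, (hLmem _).1 c.2 w hw, zero_add]
    exact h d d.2
  have hle : ∀ (A C : Submodule (ZMod p) U) (F : U →ₗ[ZMod p] U →ₗ[ZMod p] ZMod p),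
      (∀ a ∈ A, (∀ c ∈ C, F a c = 0) → a = 0) → finrank (ZMod p) A ≤ finrank (ZMod p) C := by
    intro A C F hF
    rw [← Subspace.dual_finrank_eq (V := C)]
    exact LinearMap.finrank_le_finrank_of_injective (f := (F.compl₂ C.subtype).domRestrict A)
      ((injective_iff_map_eq_zero _).2 fun a ha =>
        Subtype.ext (hF a a.2 fun c hc => LinearMap.congr_fun ha ⟨c, hc⟩))
  have hdQ : finrank (ZMod p) W = finrank (ZMod p) Q :=
    le_antisymm (hle W Q B hQl) (hle Q W B.flip hQr)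
  have hdQ' : finrank (ZMod p) W = finrank (ZMod p) Q' :=
    le_antisymm (hle W Q' B.flip hQr') (hle Q' W B hQl')
  -- a partner pairing with `W` on both sides
  obtain ⟨W', hW', hl, hr, hr'⟩ : ∃ W' : Submodule (ZMod p) U, (∀ h, ∀ w ∈ W', ρ h w ∈ W') ∧
      (∀ a ∈ W, (∀ c ∈ W', B a c = 0) → a = 0) ∧ (∀ c ∈ W', (∀ a ∈ W, B a c = 0) → c = 0) ∧
      (∀ c ∈ W', (∀ a ∈ W, B c a = 0) → c = 0) := by
    let K1 := W ⊓ LinearMap.ker ((B.domRestrict Q).flip)
    have hK1 : ∀ h, ∀ w ∈ K1, ρ h w ∈ K1 := fun h w hw => ⟨hW h w hw.1, LinearMap.ext fun x => by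
      show B x (ρ h w) = 0
      rw [hinv'']
      exact LinearMap.congr_fun hw.2 ⟨_, hQ h⁻¹ x x.2⟩⟩
    rcases hWmin K1 hK1 inf_le_left with hk | hk
    · refine ⟨Q, hQ, hQl, hQr, fun c hc h => nondeg_swap B.flip ?_ hdQ c hc fun a ha => h a ha⟩
      exact fun a ha h => (Submodule.mem_bot (R := ZMod p)).1
        (hk ▸ (⟨ha, LinearMap.ext fun x => h x x.2⟩ : a ∈ K1))
    have hQW : ∀ q ∈ Q, ∀ w ∈ W, B q w = 0 := fun q hq w hw => by
      have : w ∈ K1 := hk.symm ▸ hw
      exact LinearMap.congr_fun this.2 ⟨q, hq⟩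
    let K2 := W ⊓ LinearMap.ker ((B.flip.domRestrict Q').flip)
    have hK2 : ∀ h, ∀ w ∈ K2, ρ h w ∈ K2 := fun h w hw => ⟨hW h w hw.1, LinearMap.ext fun x => by
      show B (ρ h w) x = 0
      rw [hinv']
      exact LinearMap.congr_fun hw.2 ⟨_, hQ' h⁻¹ x x.2⟩⟩
    rcases hWmin K2 hK2 inf_le_left with hk2 | hk2
    · have hl2 : ∀ a ∈ W, (∀ c ∈ Q', B a c = 0) → a = 0 := fun a ha h =>
        (Submodule.mem_bot (R := ZMod p)).1 (hk2 ▸ (⟨ha, LinearMap.ext fun x => h x x.2⟩ : a ∈ K2))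
      exact ⟨Q', hQ', hl2, fun c hc h => nondeg_swap B hl2 hdQ' c hc h, hQl'⟩
    have hWQ' : ∀ q ∈ Q', ∀ w ∈ W, B w q = 0 := fun q hq w hw => by
      have : w ∈ K2 := hk2.symm ▸ hw
      exact LinearMap.congr_fun this.2 ⟨q, hq⟩
    let F : Q' →ₗ[ZMod p] Dual (ZMod p) W := (B.compl₂ W.subtype).domRestrict Q'
    have hFi : Function.Injective F := (injective_iff_map_eq_zero F).2 fun a ha =>
      Subtype.ext (hQl' a a.2 fun c hc => LinearMap.congr_fun ha ⟨c, hc⟩)
    let Fe : Q' ≃ₗ[ZMod p] Dual (ZMod p) W := LinearEquiv.ofBijective F ⟨hFi,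
      (LinearMap.injective_iff_surjective_of_finrank_eq_finrank (by rw [Subspace.dual_finrank_eq, hdQ'])).1 hFi⟩
    let φ : Q →ₗ[ZMod p] Q' := Fe.symm.toLinearMap ∘ₗ (B.flip.compl₂ W.subtype).domRestrict Q
    have hφ : ∀ (q : Q) (w : W), B (φ q : U) (w : U) = B (w : U) (q : U) := fun q w =>
      LinearMap.congr_fun (Fe.apply_symm_apply ((B.flip.compl₂ W.subtype).domRestrict Q q)) w
    let γ : Q →ₗ[ZMod p] U := Q.subtype + Q'.subtype ∘ₗ φ
    have hγl : ∀ (q : Q), ∀ w ∈ W, B w (γ q) = B w q := fun q w hw => by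
      show B w ((q : U) + (φ q : U)) = _
      rw [map_add, hWQ' _ (φ q).2 w hw, add_zero]
    have hγr : ∀ (q : Q), ∀ w ∈ W, B (γ q) w = B w q := fun q w hw => by
      show B ((q : U) + (φ q : U)) w = _
      rw [map_add, LinearMap.add_apply, hQW _ q.2 w hw, zero_add]
      exact hφ q ⟨w, hw⟩
    refine ⟨LinearMap.range γ, ?_, fun a ha h => hQl a ha fun q hq => ?_, ?_, ?_⟩
    · rintro h _ ⟨q, rfl⟩
      refine ⟨⟨ρ h q, hQ h q q.2⟩, ?_⟩
      have h0 : φ ⟨ρ h q, hQ h q q.2⟩ = ⟨ρ h (φ q : U), hQ' h _ (φ q).2⟩ := by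
        refine sub_eq_zero.1 (Subtype.ext (hQl' _ (sub_mem (φ _).2 (hQ' h _ (φ q).2)) fun w hw => ?_))
        rw [AddSubgroupClass.coe_sub, map_sub, LinearMap.sub_apply, hφ ⟨_, hQ h q q.2⟩ ⟨w, hw⟩, hinv' h (φ q : U) w,
          hφ q ⟨_, hW h⁻¹ w hw⟩, hinv'' h w q, sub_self]
      show (ρ h q : U) + (φ ⟨ρ h q, hQ h q q.2⟩ : U) = ρ h ((q : U) + (φ q : U))
      rw [h0, map_add]
    · exact (hγl ⟨q, hq⟩ a ha).symm.trans (h _ ⟨_, rfl⟩)
    · rintro _ ⟨q, rfl⟩ h
      rw [show q = 0 from Subtype.ext (hQr q q.2 fun w hw => (hγl q w hw).symm.trans (h w hw)), map_zero]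
    · rintro _ ⟨q, rfl⟩ h
      rw [show q = 0 from Subtype.ext (hQr q q.2 fun w hw => (hγr q w hw).symm.trans (h w hw)), map_zero]
  have hdisj : Disjoint W W' := Submodule.disjoint_def.2 fun x hx hx' => hr x hx' fun a ha => hiso a ha x hx
  have htop : W ⊔ W' = ⊤ := by
    by_contra hne
    obtain ⟨x, hx, hx0, hxne⟩ := hsplit (W ⊔ W') (fun h w hw => by
      obtain ⟨a, ha, c, hc, rfl⟩ := Submodule.mem_sup.1 hw
      rw [map_add]
      exact Submodule.add_mem_sup (hW h a ha) (hW' h c hc)) (fun h => hWb (eq_bot_iff.2 (h ▸ le_sup_left))) hne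
    obtain ⟨a, ha, c, hc, rfl⟩ := Submodule.mem_sup.1 hx
    have hc0 : c = 0 := hr' c hc fun w hw => by
      have := hx0 w (Submodule.mem_sup_left hw)
      rwa [map_add, LinearMap.add_apply, hiso a ha w hw, zero_add] at this
    subst hc0
    have ha0 : a = 0 := hl a ha fun d hd => by
      have := hx0 d (Submodule.mem_sup_right hd)
      rwa [add_zero] at this
    exact hxne (by rw [ha0, add_zero])
  have hc : IsCompl W W' := ⟨hdisj, codisjoint_iff.2 htop⟩
  let e := Submodule.prodEquivOfIsCompl W W' hc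
  let P1 : U →ₗ[ZMod p] U := W.subtype ∘ₗ LinearMap.fst _ _ _ ∘ₗ e.symm.toLinearMap
  let P2 : U →ₗ[ZMod p] U := W'.subtype ∘ₗ LinearMap.snd _ _ _ ∘ₗ e.symm.toLinearMap
  have heq : ∀ h u, e.symm (ρ h u) = (⟨ρ h (e.symm u).1, hW h _ (e.symm u).1.2⟩,
      ⟨ρ h (e.symm u).2, hW' h _ (e.symm u).2.2⟩) := fun h u => by
    rw [LinearEquiv.symm_apply_eq]
    show ρ h u = Submodule.prodEquivOfIsCompl W W' hc _
    rw [Submodule.coe_prodEquivOfIsCompl', ← map_add]
    congr 1
    exact (e.apply_symm_apply u).symm.trans (Submodule.coe_prodEquivOfIsCompl' _ _ _ _)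
  let C : U →ₗ[ZMod p] U →ₗ[ZMod p] ZMod p := (B.comp P1).compl₂ P2
  refine weight_gauss hM hpH hHN hpN ρ (fun u => C u u) (fun h u => ?_)
    (LinearMap.toAddMonoidHom'.comp (C + C.flip).toAddMonoidHom) (fun a b => ?_) (fun d hd => ?_)
  · show B ((e.symm (ρ h u)).1 : U) ((e.symm (ρ h u)).2 : U) = B ((e.symm u).1 : U) ((e.symm u).2 : U)
    rw [heq]
    exact hinv h _ _
  · show C (a + b) (a + b) = C a a + C b b + (C a b + C b a)
    simp only [map_add, LinearMap.add_apply]
    ring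
  · obtain ⟨⟨a, c⟩, rfl⟩ := e.surjective d
    have hd' : ∀ (a' : W) (c' : W'), B (a' : U) (c : U) + B (a : U) (c' : U) = 0 := fun a' c' => by
      have : C (e (a', c')) (e (a, c)) + C (e (a, c)) (e (a', c')) = 0 := hd (e (a', c'))
      simpa [C, P1, P2] using this
    have ha : a = 0 := Subtype.ext (hl a a.2 fun x hx => by simpa using hd' 0 ⟨x, hx⟩)
    have hc' : c = 0 := Subtype.ext (hr c c.2 fun x hx => by simpa using hd' ⟨x, hx⟩ 0)
    rw [ha, hc', show ((0 : W), (0 : W')) = 0 from rfl, map_zero]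

end Cfsg.Lib.Char.RealVector
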